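import Cfsg.Agent.Lib.CosetEnum.SuzG2.Data

/-!
# Checks for SuzG2
-/

set_option autoImplicit false

namespace Cfsg.Agent.Lib.CosetEnum.SuzG2

open Cfsg.Agent.Lib.CosetEnum

theorem back_chunk0 : allUpTo cert.backOk 0 1782 = true := by decide +kernel

theorem imgs_chunk0 : allUpTo cert.imgOk 0 7353 = true := by decide +kernel

end Cfsg.Agent.Lib.CosetEnum.SuzG2
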