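import Cfsg.Agent.Lib.CosetEnum.Close
import Cfsg.Agent.Lib.CosetEnum.SuzG2.Check0
import Cfsg.Agent.Lib.CosetEnum.SuzG2.Check1
import Cfsg.Agent.Lib.CosetEnum.SuzG2.Check2
import Cfsg.Agent.Lib.CosetEnum.SuzG2.Check3
import Cfsg.Agent.Lib.CosetEnum.SuzG2.Check4
import Cfsg.Agent.Lib.CosetEnum.SuzG2.Check5

/-!
# The certificate for SuzG2 is correct
-/

set_option autoImplicit false

namespace Cfsg.Agent.Lib.CosetEnum.SuzG2

open Cfsg.Agent.Lib.CosetEnum

theorem items_upTo0 : ∀ i < 0 + 8000, cert.itemOk i = true :=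
  allUpTo_append (n := 0) (fun i hi => absurd hi (Nat.not_lt_zero i)) items_chunk0

theorem items_upTo1 : ∀ i < 8000 + 8000, cert.itemOk i = true :=
  allUpTo_append (n := 8000) items_upTo0 items_chunk1

theorem items_upTo2 : ∀ i < 16000 + 8000, cert.itemOk i = true :=
  allUpTo_append (n := 16000) items_upTo1 items_chunk2

theorem items_upTo3 : ∀ i < 24000 + 8000, cert.itemOk i = true :=
  allUpTo_append (n := 24000) items_upTo2 items_chunk3

theorem items_upTo4 : ∀ i < 32000 + 4419, cert.itemOk i = true :=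
  allUpTo_append (n := 32000) items_upTo3 items_chunk4

theorem close_upTo0 : ∀ i < 0 + 571, cert.closeOk i = true :=
  allUpTo_append (n := 0) (fun i hi => absurd hi (Nat.not_lt_zero i)) close_chunk0

theorem close_upTo1 : ∀ i < 571 + 571, cert.closeOk i = true :=
  allUpTo_append (n := 571) close_upTo0 close_chunk1

theorem close_upTo2 : ∀ i < 1142 + 571, cert.closeOk i = true :=
  allUpTo_append (n := 1142) close_upTo1 close_chunk2

theorem close_upTo3 : ∀ i < 1713 + 69, cert.closeOk i = true :=
  allUpTo_append (n := 1713) close_upTo2 close_chunk3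

theorem rels_upTo0 : ∀ i < 0 + 173, cert.relOk i = true :=
  allUpTo_append (n := 0) (fun i hi => absurd hi (Nat.not_lt_zero i)) rels_chunk0

theorem rels_upTo1 : ∀ i < 173 + 173, cert.relOk i = true :=
  allUpTo_append (n := 173) rels_upTo0 rels_chunk1

theorem rels_upTo2 : ∀ i < 346 + 173, cert.relOk i = true :=
  allUpTo_append (n := 346) rels_upTo1 rels_chunk2

theorem rels_upTo3 : ∀ i < 519 + 173, cert.relOk i = true :=
  allUpTo_append (n := 519) rels_upTo2 rels_chunk3

theorem rels_upTo4 : ∀ i < 692 + 173, cert.relOk i = true :=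
  allUpTo_append (n := 692) rels_upTo3 rels_chunk4

theorem rels_upTo5 : ∀ i < 865 + 173, cert.relOk i = true :=
  allUpTo_append (n := 865) rels_upTo4 rels_chunk5

theorem rels_upTo6 : ∀ i < 1038 + 173, cert.relOk i = true :=
  allUpTo_append (n := 1038) rels_upTo5 rels_chunk6

theorem rels_upTo7 : ∀ i < 1211 + 173, cert.relOk i = true :=
  allUpTo_append (n := 1211) rels_upTo6 rels_chunk7

theorem rels_upTo8 : ∀ i < 1384 + 173, cert.relOk i = true :=
  allUpTo_append (n := 1384) rels_upTo7 rels_chunk8

theorem rels_upTo9 : ∀ i < 1557 + 173, cert.relOk i = true :=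
  allUpTo_append (n := 1557) rels_upTo8 rels_chunk9

theorem rels_upTo10 : ∀ i < 1730 + 52, cert.relOk i = true :=
  allUpTo_append (n := 1730) rels_upTo9 rels_chunk10

theorem back_upTo0 : ∀ i < 0 + 1782, cert.backOk i = true :=
  allUpTo_append (n := 0) (fun i hi => absurd hi (Nat.not_lt_zero i)) back_chunk0

theorem imgs_upTo0 : ∀ i < 0 + 7353, cert.imgOk i = true :=
  allUpTo_append (n := 0) (fun i hi => absurd hi (Nat.not_lt_zero i)) imgs_chunk0

theorem checked : cert.Checked where
  items := items_upTo4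
  close := close_upTo3
  rels := rels_upTo10
  back := back_upTo0
  imgs := imgs_upTo0
  base := by decide +kernel
  small := by decide +kernel

end Cfsg.Agent.Lib.CosetEnum.SuzG2
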