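import Cfsg.Agent.Lib.CosetEnum.SuzG2.Data
import Cfsg.Agent.Lib.CosetEnum.Orbits
import Cfsg.Agent.Lib.CosetEnum.SuzG2.Lab
import Cfsg.Agent.Lib.CosetEnum.SuzG2.Par

/-!
# Orbit data
-/

set_option autoImplicit false

namespace Cfsg.Agent.Lib.CosetEnum.SuzG2

open Cfsg.Agent.Lib.CosetEnum

/-- orbit representatives -/
def roots : List ℕ := [0, 1, 137]

theorem orbit_check : allUpTo (cert.orbOk lab par roots) 0 1782 = true := by decide +kernel

theorem orbit_all : ∀ i < cert.N, cert.orbOk lab par roots i = true := fun i hi =>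
  of_allUpTo orbit_check i (Nat.zero_le _) (by simpa [cert] using hi)

theorem count0 : cert.countLab lab 0 = 1 := by decide +kernel

theorem count1 : cert.countLab lab 1 = 1365 := by decide +kernel

theorem count2 : cert.countLab lab 2 = 416 := by decide +kernel

end Cfsg.Agent.Lib.CosetEnum.SuzG2
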